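import Groth.Agent.Surf.K456.Nakai
import Groth.Agent.Surf.K455.Pos
import Groth.Agent.Variety.K658.RelDimComp

/-!
# Effective divisors on a surface without curves of negative self-intersection

`X` smooth, proper, integral of dimension two over a field `k`, with `(C·C) ≥ 0` for every curve `C`.
* `dot_nonneg`: `(D·D') ≥ 0` for effective Cartier divisors.
* `isAmple_of_section`: an invertible module with a nonzero section and positive self-intersection is ample.
-/

set_option autoImplicit false
universe u
open CategoryTheory CategoryTheory.Limits AlgebraicGeometry Opposite TopologicalSpace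

namespace K655.Nonneg

open Groth.Agent.Grpsch.PicGrp Groth.Agent K464.Base K464.Curves K464.Comp K464.DivLat

variable (k : Type u) [Field k] {X : Scheme.{u}} [X.Over (Spec (CommRingCat.of k))]
  [IsProper (X ↘ Spec (CommRingCat.of k))] [Smooth (X ↘ Spec (CommRingCat.of k))] [IsIntegral X]
  (hdim : topologicalKrullDim X = 2)
  (hself : ∀ (C : X.IdealSheafData) (_ : IsCurve C) (hCe : BlowUp.IsEffCartierIdeal C), 0 ≤ dot k X (ic C hCe) (ic C hCe))

include hdim hself

/-- The intersection number of a curve and an effective divisor. -/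
theorem dot_curve_nonneg {C D : X.IdealSheafData} (hC : IsCurve C) (hCe : BlowUp.IsEffCartierIdeal C)
    (hD : BlowUp.IsEffCartierIdeal D) : 0 ≤ dot k X (ic C hCe) (ic D hD) := by
  have h := degOn_nonneg_of_forall k hdim (a := (ic C hCe)⁻¹) (fun C' hC' => by
    have hC'e := isEff_of_smooth k hdim hC'
    rw [degOn_inv k hC', ← dot_ic_eq k X hC'e]
    by_cases hne : C' = C
    · subst hne
      exact hself C' hC' hCe
    · exact dot_ic_ic_nonneg k hC' hC'e hCe (gp_notMem hC' hC hne)) hD
  rw [degOn_eq_neg_dot k X hD, dot_inv_right k X hdim.le, neg_neg, dot_comm] at h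
  exact h

/-- **Effective divisors meet non-negatively.** -/
theorem dot_nonneg {D D' : X.IdealSheafData} (hD : BlowUp.IsEffCartierIdeal D) (hD' : BlowUp.IsEffCartierIdeal D') :
    0 ≤ dot k X (ic D hD) (ic D' hD') := by
  have h := degOn_nonneg_of_forall k hdim (a := (ic D hD)⁻¹) (fun C' hC' => by
    have hC'e := isEff_of_smooth k hdim hC'
    rw [degOn_inv k hC', ← dot_ic_eq k X hC'e]
    exact dot_curve_nonneg k hdim hself hC' hC'e hD) hD'
  rw [degOn_eq_neg_dot k X hD', dot_inv_right k X hdim.le, neg_neg, dot_comm] at h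
  exact h

/-- An effective class of positive self-intersection has positive degree on every curve. -/
theorem degOn_pos {H : X.Modules} (hH : CohB1.IsAmple H) {D : X.IdealSheafData} (hD : BlowUp.IsEffCartierIdeal D)
    (hsq : 0 < dot k X (ic D hD) (ic D hD)) {C : X.IdealSheafData} (hC : IsCurve C) :
    0 < degOn k X C (ic D hD)⁻¹ := by
  have hCe := isEff_of_smooth k hdim hC
  have h1 := dot_curve_nonneg k hdim hself hC hCe hD
  rw [degOn_inv k hC, ← dot_ic_eq k X hCe]
  refine lt_of_le_of_ne h1 fun h0 => ?_
  have h2 := K456.Nakai.hodge_neg k hdim hH (a := ic D hD) (m := ic C hCe) (h := mk H hH.1) hsq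
    (by rw [dot_comm]; exact h0.symm) (by
      rw [dot_ic_eq k X hCe]
      exact (neg_lt_zero.2 (degOn_pos_of_ample k hC hH.1 hH)).ne)
  exact absurd (hself C hC hCe) (not_le.2 h2)

/-- An invertible module with a nonzero section and positive self-intersection is ample. -/
theorem isAmple_of_section {H : X.Modules} (hH : CohB1.IsAmple H) {L : X.Modules} (hL : PicF.IsInvertible L)
    (hs : Nontrivial (Coh.HH X L 0)) (hsq : 0 < dot k X (mk L hL) (mk L hL)) : CohB1.IsAmple L := by
  obtain ⟨s, hs⟩ := K456.SecTriv.exists_ne_zero_of_nontrivial hs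
  obtain ⟨D, hD, e⟩ := K455.Pos.exists_divisor hL s hs
  have h1 : mk L hL = (ic D hD)⁻¹ := by
    apply eq_inv_of_mul_eq_one_left
    unfold ic
    rw [mk_mul_mk, mk_eq_one_iff]
    exact (Fga.PicMon.mc_eq_iff _ _).1 e
  rw [h1, dot_inv_inv k X hdim.le] at hsq
  refine K456.Nakai.nakai k hdim hH hL (fun C hC => ?_) ?_
  · rw [h1]
    exact degOn_pos k hdim hself hH hD hsq hC
  · rw [h1, dot_inv_inv k X hdim.le]
    exact hsq

end K655.Nonneg
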